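import Mathlib
import Cfsg.Prelude.Def_Local

/-!
# S2924: shared definition `theta`

`theta X x = O(C_X(x))` viewed as a subgroup of `X`, exactly in the shape of the frozen statement S2924.
-/

set_option autoImplicit false

namespace Cfsg.Agent.Lib.H24.SG

/-- `O(C_X(x))` as a subgroup of `X` (the shape used in the frozen statement S2924). -/
def theta (X : Type*) [Group X] (x : X) : Subgroup X :=
  (Cfsg.oddCore ↥(Subgroup.centralizer ({x} : Set X))).map (Subgroup.centralizer ({x} : Set X)).subtype

theorem theta_def (X : Type*) [Group X] (x : X) :
    theta X x =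
      (Cfsg.pPrimeCore 2 ↥(Subgroup.centralizer ({x} : Set X))).map
        (Subgroup.centralizer ({x} : Set X)).subtype := rfl

end Cfsg.Agent.Lib.H24.SG
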